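import Cfsg.Agent.Lib.Helper33.KS.Defs

/-!
# [P1] of helper33's K-S 12.3 farm: some walk has non-commuting ends (helper63)
-/

set_option autoImplicit false

namespace Cfsg.Agent.Lib.Helper63.KS

open Subgroup MulAction Cfsg.Agent.Lib.Helper33.KS
open Cfsg.Agent.Lib.Helper22 (conjS mem_conjS conjS_mem conjS_mul conjS_one)

variable {G : Type*} [Group G] {V : Type*} [MulAction G V] {adj : V → V → Prop}
  {Q Z : V → Subgroup G}

theorem walk_of_rtg {B B' : V} (h : Relation.ReflTransGen adj B B') :
    ∃ (n : ℕ) (f : ℤ → V), IsPath adj f 0 n ∧ f 0 = B ∧ f n = B' := by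
  induction h with
  | refl => exact ⟨0, fun _ => B, fun i h1 h2 => by simp at h2; omega, rfl, rfl⟩
  | @tail b c _ hbc ih =>
    obtain ⟨n, f, hp, h0, hn⟩ := ih
    refine ⟨n + 1, Function.update f (n + 1) c, ?_, ?_, ?_⟩
    · intro i h1 h2
      push_cast at h2
      have hi : i ≠ (n : ℤ) + 1 := by omega
      rw [Function.update_of_ne hi]
      by_cases hin : i = n
      · subst hin
        rw [Function.update_self, hn]
        exact hbc
      · have hi' : i + 1 ≠ (n : ℤ) + 1 := by omega
        rw [Function.update_of_ne hi']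
        exact hp i h1 (by omega)
    · have : (0 : ℤ) ≠ (n : ℤ) + 1 := by omega
      rw [Function.update_of_ne this, h0]
    · push_cast
      rw [Function.update_self]

theorem p1 (hC : Cub adj Q Z) (A₀ : V) : P1 adj Z := by
  by_contra hcon
  have hall : ∀ n, Cm adj Z n := by
    intro n
    by_contra h
    exact hcon ⟨n, h⟩
  obtain ⟨B₀, hAB⟩ := hC.exV A₀
  have hsymm : Std.Symm adj := ⟨fun _ _ h => hC.symm h⟩
  set S : Set G := {x | ∃ B, Relation.ReflTransGen adj A₀ B ∧ x ∈ Z B} with hS
  have hcomm : ∀ x ∈ S, ∀ y ∈ S, x * y = y * x := by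
    rintro x ⟨B, hB, hx⟩ y ⟨B', hB', hy⟩
    have h1 : Relation.ReflTransGen adj B B' :=
      ((Relation.ReflTransGen.stdSymm (r := adj)).symm _ _ hB).trans hB'
    obtain ⟨n, f, hp, h0, hn⟩ := walk_of_rtg h1
    have := hall n f 0 (by simpa using hp)
    rw [zero_add, h0, hn] at this
    exact this x hx y hy
  have hN1 : ∀ x ∈ closure S, ∀ y ∈ S, x * y = y * x := by
    intro x hx y hy
    induction hx using closure_induction with
    | mem x hx => exact hcomm x hx y hy
    | one => simp
    | mul a b _ _ iha ihb => rw [mul_assoc, ihb, ← mul_assoc, iha, mul_assoc]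
    | inv a _ iha =>
      calc a⁻¹ * y = a⁻¹ * (y * a) * a⁻¹ := by group
        _ = a⁻¹ * (a * y) * a⁻¹ := by rw [iha]
        _ = y * a⁻¹ := by group
  have hN2 : ∀ x ∈ closure S, ∀ y ∈ closure S, x * y = y * x := by
    intro x hx y hy
    induction hy using closure_induction with
    | mem y hy => exact hN1 x hx y hy
    | one => simp
    | mul a b _ _ iha ihb => rw [← mul_assoc, iha, mul_assoc, ihb, mul_assoc]
    | inv a _ iha =>
      calc x * a⁻¹ = a⁻¹ * (a * x) * a⁻¹ := by group
        _ = a⁻¹ * (x * a) * a⁻¹ := by rw [iha]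
        _ = a⁻¹ * x := by group
  have hsq : ∀ x ∈ closure S, x * x = 1 := by
    intro x hx
    induction hx using closure_induction with
    | mem x hx =>
      obtain ⟨B, _, hx⟩ := hx
      exact hC.Ze B x hx
    | one => simp
    | mul a b ha hb iha ihb =>
      calc a * b * (a * b) = a * (b * a) * b := by group
        _ = a * (a * b) * b := by rw [hN2 b hb a ha]
        _ = (a * a) * (b * b) := by group
        _ = 1 := by rw [iha, ihb, one_mul]
    | inv a _ iha =>
      calc a⁻¹ * a⁻¹ = (a * a)⁻¹ := by group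
        _ = 1 := by rw [iha, inv_one]
  have hP : IsPGroup 2 (closure S) := by
    rintro ⟨g, hg⟩
    refine ⟨1, ?_⟩
    ext
    simp only [pow_one, pow_two, MulMemClass.mk_mul_mk, OneMemClass.coe_one]
    exact hsq g hg
  have hconj : ∀ g : G, (∀ B, Relation.ReflTransGen adj A₀ B → Relation.ReflTransGen adj A₀ (g • B)) →
      ∀ x ∈ closure S, g * x * g⁻¹ ∈ closure S := by
    intro g hg x hx
    induction hx using closure_induction with
    | mem x hx =>
      obtain ⟨B, hB, hx⟩ := hx
      apply Subgroup.subset_closure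
      refine ⟨g • B, hg B hB, ?_⟩
      rw [hC.Z_smul]
      exact conjS_mem hx
    | one => simp
    | mul a b _ _ iha ihb =>
      have : g * (a * b) * g⁻¹ = (g * a * g⁻¹) * (g * b * g⁻¹) := by group
      rw [this]
      exact mul_mem iha ihb
    | inv a _ iha =>
      have : g * a⁻¹ * g⁻¹ = (g * a * g⁻¹)⁻¹ := by group
      rw [this]
      exact inv_mem iha
  have hnorm : ∀ H : Subgroup G,
      (∀ g ∈ H, ∀ B, Relation.ReflTransGen adj A₀ B → Relation.ReflTransGen adj A₀ (g • B)) →
      H ≤ normalizer (closure S : Set G) := by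
    intro H hH g hg
    rw [mem_normalizer_iff]
    intro x
    constructor
    · exact hconj g (hH g hg) x
    · intro h
      have := hconj g⁻¹ (hH g⁻¹ (inv_mem hg)) _ h
      have e : g⁻¹ * (g * x * g⁻¹) * g⁻¹⁻¹ = x := by group
      rwa [e] at this
  have hlift : ∀ (g : G) (B : V), Relation.ReflTransGen adj A₀ B →
      Relation.ReflTransGen adj (g • A₀) (g • B) := by
    intro g B hB
    exact Relation.ReflTransGen.lift (g • ·) (fun a b h => hC.adj_smul g h) _ _ hB
  have hA : St G A₀ ≤ normalizer (closure S : Set G) := by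
    apply hnorm
    intro g hg B hB
    have := hlift g B hB
    rwa [show g • A₀ = A₀ from hg] at this
  have hB : St G B₀ ≤ normalizer (closure S : Set G) := by
    apply hnorm
    intro g hg B hB
    have h1 := hlift g B hB
    have h2 : adj B₀ (g • A₀) := by
      have := hC.adj_smul g (hC.symm hAB)
      rwa [show g • B₀ = B₀ from hg] at this
    exact ((Relation.ReflTransGen.single hAB).trans (Relation.ReflTransGen.single h2)).trans h1
  have hbot := hC.core hAB (closure S) hP hA hB
  apply hC.Zne A₀
  rw [eq_bot_iff, ← hbot]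
  intro x hx
  exact Subgroup.subset_closure ⟨A₀, Relation.ReflTransGen.refl, hx⟩

end Cfsg.Agent.Lib.Helper63.KS
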