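import Cfsg.Agent.Lib.Helper63.KS.P4

/-!
# [P3] of helper33's K-S 12.3 farm: the commutator of a critical pair (helper63)
-/

set_option autoImplicit false

namespace Cfsg.Agent.Lib.Helper63.KS

open Subgroup MulAction Cfsg.Agent.Lib.Helper33.KS
open Cfsg.Agent.Lib.Helper22 (conjS mem_conjS conjS_mem conjS_mul conjS_one)

variable {G : Type*} [Group G] {V : Type*} [MulAction G V] {adj : V → V → Prop}
  {Q Z : V → Subgroup G}

theorem elemAb_aux {H : Subgroup G} (hc : ∀ a ∈ H, ∀ b ∈ H, a * b = b * a)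
    (he : ∀ a ∈ H, a * a = 1) {p q u v : G} (hp : p ∈ H) (hq : q ∈ H) (hu : u ∈ H)
    (h : u * v = p * q) : q * v = p * u := by
  calc q * v = q * ((u * u) * v) := by rw [he u hu, one_mul]
    _ = q * (u * (u * v)) := by rw [mul_assoc]
    _ = q * ((u * p) * q) := by rw [h, mul_assoc]
    _ = q * (q * (u * p)) := by rw [hc (u * p) (mul_mem hu hp) q hq]
    _ = (q * q) * (u * p) := by rw [mul_assoc]
    _ = p * u := by rw [he q hq, one_mul, hc u hu p hp]

theorem inv_eq_self_of_sq {x : G} (h : x * x = 1) : x⁻¹ = x :=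
  inv_eq_of_mul_eq_one_left h

theorem p3_one (hC : Cub adj Q Z) {b : ℕ} (hb : MinB adj Z b) (h2 : P2 adj Q Z b)
    (f : ℤ → V) (l : ℤ) (hp : IsPath adj f l (l + b)) (a : G) (ha : a ∈ Z (f l)) (x : G)
    (hx : x ∈ Z (f (l + b))) (hne : a * x ≠ x * a) :
    IsW Z (f l) (f (l + 1)) (a * x * a * x) := by
  have hb2 := hb.two_le
  have hAB : adj (f l) (f (l + 1)) := hp l le_rfl (by omega)
  have hBA' : adj (f (l + b - 1)) (f (l + b)) := by
    have := hp (l + b - 1) (by omega) (by omega)
    rwa [sub_add_cancel] at this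
  have hxQB : x ∈ Q (f (l + 1)) :=
    (h2 f (l + 1) (l + b) (fun i h1 h3 => hp i (by omega) h3) (by omega) (by omega)).1 hx
  have hxB : x ∈ St G (f (l + 1)) := hC.QA _ hxQB
  have hxA : x ∈ St G (f l) := hC.QB (hC.symm hAB) hxQB
  have hxQ : x ∉ Q (f l) := fun h => hne (hC.QZ _ x h a ha).symm
  have hZT : ∀ a' ∈ Z (f l), a' ∈ St G (f (l + b)) ⊓ St G (f (l + b - 1)) := by
    intro a' ha'
    have h := (h2 f l (l + b - 1) (fun i h1 h3 => hp i h1 (by omega)) (by omega) (by omega)).2 ha'
    exact ⟨hC.QB hBA' h, hC.QA _ h⟩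
  have haQ : a ∉ Q (f (l + b)) := fun h => hne (hC.QZ _ a h x hx)
  have hxx : x * x = 1 := hC.Ze _ x hx
  have hxi : x⁻¹ = x := inv_eq_self_of_sq hxx
  have haa : a * a = 1 := hC.Ze _ a ha
  have hnorm : ∀ a' ∈ Z (f l), x * a' * x ∈ Z (f l) := by
    intro a' ha'
    have := Z_conj_mem hC hxA ha'
    rwa [hxi] at this
  refine ⟨?_, ?_, a, ha, x, ⟨hxA, hxB⟩, ?_⟩
  · intro h
    apply hne
    have h1 : a * x * (a * x) = 1 := by rw [← h]; group
    have h3 : (a * x)⁻¹ = a * x := inv_eq_self_of_sq h1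
    rw [mul_inv_rev, hxi, inv_eq_self_of_sq haa] at h3
    exact h3.symm
  · intro a' ha' t ht
    by_cases htQ : t ∈ Q (f l)
    · left
      have := hC.QZ _ t htQ a' ha'
      rw [this, mul_inv_cancel_right]
      exact hC.Ze _ a' ha'
    · have htx : t * x ∈ Q (f l) := hC.i2 hAB t ht x ⟨hxA, hxB⟩ htQ hxQ
      have e1 : t * a' * t⁻¹ = x * a' * x := by
        have h := hC.QZ _ (t * x) htx (x * a' * x) (hnorm a' ha')
        have h3 : t * x * (x * a' * x) = t * a' * x := by
          calc t * x * (x * a' * x) = t * (x * x) * a' * x := by group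
            _ = t * a' * x := by rw [hxx, mul_one]
        rw [h3] at h
        calc t * a' * t⁻¹ = (t * a' * x) * (x⁻¹ * t⁻¹) := by group
          _ = x * a' * x * (t * x) * (x⁻¹ * t⁻¹) := by rw [h]
          _ = x * a' * x := by group
      rw [e1]
      by_cases ha'Q : a' ∈ Q (f (l + b))
      · left
        have h := hC.QZ _ a' ha'Q x hx
        calc a' * (x * a' * x) = a' * ((x * a') * x) := by group
          _ = a' * ((a' * x) * x) := by rw [h]
          _ = (a' * a') * (x * x) := by group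
          _ = 1 := by rw [hxx, hC.Ze _ a' ha', one_mul]
      · right
        have hq : a * a' ∈ Q (f (l + b)) :=
          hC.i2 (hC.symm hBA') a (hZT a ha) a' (hZT a' ha') haQ ha'Q
        have h := hC.QZ _ (a * a') hq x hx
        have huv : (x * a * x) * (x * a' * x) = a * a' := by
          calc (x * a * x) * (x * a' * x) = x * a * (x * x) * a' * x := by group
            _ = x * (a * a') * x := by rw [hxx]; group
            _ = (a * a' * x) * x := by rw [h]
            _ = a * a' * (x * x) := by group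
            _ = a * a' := by rw [hxx, mul_one]
        have := elemAb_aux (hC.Zc (f l)) (hC.Ze (f l)) ha ha' (hnorm a ha) huv
        rw [this]; group
  · rw [hxi]; group

theorem p3 (hC : Cub adj Q Z) {b : ℕ} (hb : MinB adj Z b) (h2 : P2 adj Q Z b) : P3 adj Z b := by
  intro f l hp a ha x hx hne
  have h1 := p3_one hC hb h2 f l hp a ha x hx hne
  refine ⟨h1, ?_⟩
  have hb2 := hb.two_le
  have hrA : a * x * a * x ∈ Z (f l) :=
    (p4 hC (f l) (f (l + 1)) _ (hp l le_rfl (by omega)) h1).1
  have hxx : x * x = 1 := hC.Ze _ x hx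
  have haa : a * a = 1 := hC.Ze _ a ha
  have hr : x * a * x * a = a * x * a * x := by
    have h := inv_eq_self_of_sq (hC.Ze _ _ hrA)
    rw [← h]
    simp only [mul_inv_rev, inv_eq_self_of_sq hxx, inv_eq_self_of_sq haa, mul_assoc]
  have hp' : IsPath adj (fun i => f (2 * l + b - i)) l (l + b) := by
    intro i h3 h4
    have := hC.symm (hp (2 * l + b - i - 1) (by omega) (by omega))
    have e1 : 2 * l + (b : ℤ) - i - 1 + 1 = 2 * l + b - i := by ring
    have e2 : 2 * l + (b : ℤ) - i - 1 = 2 * l + b - (i + 1) := by ring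
    rw [e1, e2] at this
    exact this
  have e0 : 2 * l + (b : ℤ) - l = l + b := by ring
  have e1 : 2 * l + (b : ℤ) - (l + b) = l := by ring
  have e2 : 2 * l + (b : ℤ) - (l + 1) = l + b - 1 := by ring
  have h3 := p3_one hC hb h2 (fun i => f (2 * l + b - i)) l hp' x (by simpa only [e0] using hx) a
    (by simpa only [e1] using ha) (fun h => hne h.symm)
  simp only [e0, e2] at h3
  rw [hr] at h3
  exact h3

end Cfsg.Agent.Lib.Helper63.KS
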